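import Groth.Agent.FinBundleLib.Bundle
import Groth.Agent.CurveVBLib.MaxSub
import Groth.Agent.S7637

/-! Degrees of finite bundles on curves. -/

set_option autoImplicit false
set_option backward.isDefEq.respectTransparency false
set_option backward.isDefEq.respectTransparency.types false
universe u

noncomputable section

open CategoryTheory CategoryTheory.Limits AlgebraicGeometry
open CurvLib (genRank)
open CurveVBLib (dg)

namespace FinBundleLib

attribute [local instance] Abelian.hasFiniteBiproducts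

variable {X : Scheme.{u}} [IsIntegral X]

theorem genRank_congr {A B : X.Modules} (e : A ≅ B) : genRank A = genRank B :=
  ((DevissLib.St (genericPoint X)).mapIso e).toLinearEquiv.finrank_eq

theorem genRank_tensor (A B : X.Modules) : genRank (CohB1.tensorMod A B) = genRank A * genRank B := by
  letI : Field (X.presheaf.stalk (genericPoint X)) := (inferInstance : Field X.functionField)
  exact ((KFlatLib.stalkTensorIso A B (genericPoint X)).toLinearEquiv.finrank_eq).symm.trans
    (Module.finrank_tensorProduct (R := X.presheaf.stalk (genericPoint X)) (S := X.presheaf.stalk (genericPoint X)))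

variable (k : Type u) [Field k] [X.Over (Spec (CommRingCat.of k))]

theorem dg_congr {A B : X.Modules} (e : A ≅ B) : dg k A = dg k B := by
  rw [dg, dg, genRank_congr e, CurvLib.euler_congr (k := k) e]

variable [IsProper (X ↘ Spec (CommRingCat.of k))]

theorem dg_biprod {A B : X.Modules} (hA : Coh.IsCoh A) (hB : Coh.IsCoh B) (hAB : Coh.IsCoh (A ⊞ B)) :
    genRank (A ⊞ B) = genRank A + genRank B ∧ dg k (A ⊞ B) = dg k A + dg k B := by
  haveI := CurvLib.isNoetherian k (X := X)
  exact ⟨CurvLib.genRank_add (S := ShortComplex.mk (biprod.inl : A ⟶ A ⊞ B) biprod.snd biprod.inl_snd)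
      (K0ResLib.biprodSeq_shortExact A B) hA hAB hB,
    CurveVBLib.dg_add (k := k) (S := ShortComplex.mk (biprod.inl : A ⟶ A ⊞ B) biprod.snd biprod.inl_snd)
      (K0ResLib.biprodSeq_shortExact A B) hA hAB hB⟩

variable (hdim : topologicalKrullDim X = 1)

include hdim in
theorem dg_tensor {A B : X.Modules} (hA : FlatMod.IsFinLocFree A) (hB : FlatMod.IsFinLocFree B) :
    dg k (CohB1.tensorMod A B) = genRank A * dg k B + genRank B * dg k A := by
  have h := Groth.Agent.S7637.result k X hdim.le _ _ A B (CurveVBLib.rank_genRank hA) (CurveVBLib.rank_genRank hB)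
  rw [CurveVBLib.deg_eq, CurveVBLib.deg_eq, CurveVBLib.deg_eq] at h
  rw [dg, dg, dg, genRank_tensor]
  exact h

include k in
/-- Tensoring a monomorphism with a bundle. -/
theorem mono_tensor_left {E F F' : X.Modules} (hE : FlatMod.IsFinLocFree E) (i : F ⟶ F') [Mono i] :
    ∃ j : CohB1.tensorMod E F ⟶ CohB1.tensorMod E F', Mono j := by
  haveI := CurvLib.isNoetherian k (X := X)
  let S : ShortComplex X.Modules := ShortComplex.mk i (cokernel.π i) (cokernel.condition i)
  have hS : S.ShortExact :=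
    { exact := ShortComplex.exact_of_g_is_cokernel _ (cokernelIsCokernel i)
      mono_f := inferInstanceAs (Mono i)
      epi_g := inferInstanceAs (Epi (cokernel.π i)) }
  exact ⟨_, (VBResLib.shortExact_tensor_vb E hE hS).mono_f⟩

include k in
/-- Tensoring an epimorphism with a bundle. -/
theorem epi_tensor_left {E F F' : X.Modules} (hE : FlatMod.IsFinLocFree E) (p : F ⟶ F') [Epi p] :
    ∃ q : CohB1.tensorMod E F ⟶ CohB1.tensorMod E F', Epi q := by
  haveI := CurvLib.isNoetherian k (X := X)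
  let S : ShortComplex X.Modules := ShortComplex.mk (kernel.ι p) p (kernel.condition p)
  have hS : S.ShortExact :=
    { exact := ShortComplex.exact_of_f_is_kernel _ (kernelIsKernel p)
      mono_f := inferInstanceAs (Mono (kernel.ι p))
      epi_g := inferInstanceAs (Epi p) }
  exact ⟨_, (VBResLib.shortExact_tensor_vb E hE hS).epi_g⟩

include k in
theorem mono_tensor {A A' B B' : X.Modules} (hA : FlatMod.IsFinLocFree A') (hB : FlatMod.IsFinLocFree B)
    (i : A ⟶ A') [Mono i] (i' : B ⟶ B') [Mono i'] :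
    ∃ j : CohB1.tensorMod A B ⟶ CohB1.tensorMod A' B', Mono j := by
  obtain ⟨j₁, h₁⟩ := mono_tensor_left k hB i
  obtain ⟨j₂, h₂⟩ := mono_tensor_left k hA i'
  exact ⟨(HilbPolyLib.swapIso A B).hom ≫ j₁ ≫ (HilbPolyLib.swapIso B A').hom ≫ j₂, inferInstance⟩

include k in
theorem epi_tensor {A A' B B' : X.Modules} (hA : FlatMod.IsFinLocFree A') (hB : FlatMod.IsFinLocFree B)
    (p : A ⟶ A') [Epi p] (p' : B ⟶ B') [Epi p'] :
    ∃ q : CohB1.tensorMod A B ⟶ CohB1.tensorMod A' B', Epi q := by
  obtain ⟨j₁, h₁⟩ := epi_tensor_left k hB p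
  obtain ⟨j₂, h₂⟩ := epi_tensor_left k hA p'
  exact ⟨(HilbPolyLib.swapIso A B).hom ≫ j₁ ≫ (HilbPolyLib.swapIso B A').hom ≫ j₂, inferInstance⟩

/-- All coherent submodules have degree at most `M` times their rank; the degree is at least `-M` times the rank. -/
def Bdd (M : ℤ) (E : X.Modules) : Prop :=
  (∀ (G : X.Modules) (j : G ⟶ E), Mono j → Coh.IsCoh G → dg k G ≤ M * genRank G) ∧ -M * genRank E ≤ dg k E

variable [Smooth (X ↘ Spec (CommRingCat.of k))]

include hdim

theorem exists_bdd {E : X.Modules} (hE : FlatMod.IsFinLocFree E) : ∃ M : ℤ, 0 ≤ M ∧ Bdd k M E := by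
  have hEr := CurveVBLib.rank_genRank hE
  let K : ℤ := (Module.finrank k (Coh.HH X E 0) : ℤ) + genRank E * |Curv2.euler k X (Coh.structureModule X)|
  refine ⟨|K| + |dg k E|, by positivity, fun G j hj hG => ?_, ?_⟩
  · obtain ⟨-, -, -, -, hz⟩ := CurveVBLib.sub_data (k := k) hdim hEr j hG
    rcases Nat.eq_zero_or_pos (genRank G) with h0 | h0
    · rw [CurveVBLib.dg_of_isZero (hz h0), h0]; simp
    · have h1 : dg k G ≤ |K| + |dg k E| := by
        have := CurveVBLib.dg_le_bound (k := k) hdim hEr j hG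
        have := le_abs_self K
        have := abs_nonneg (dg k E)
        omega
      have h2 : (1 : ℤ) ≤ genRank G := by exact_mod_cast h0
      nlinarith [abs_nonneg K, abs_nonneg (dg k E)]
  · rcases Nat.eq_zero_or_pos (genRank E) with h0 | h0
    · obtain ⟨-, -, -, -, hz⟩ := CurveVBLib.sub_data (k := k) hdim hEr (𝟙 E) (CurvLib.isCoh_of_locFree hEr)
      rw [CurveVBLib.dg_of_isZero (hz h0), h0]; simp
    · have h2 : (1 : ℤ) ≤ genRank E := by exact_mod_cast h0
      nlinarith [abs_nonneg K, abs_nonneg (dg k E), neg_abs_le (dg k E)]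

theorem bdd_congr {M : ℤ} {A B : X.Modules} (e : A ≅ B) (h : Bdd k M A) : Bdd k M B :=
  ⟨fun G j hj hG => h.1 G (j ≫ e.inv) inferInstance hG, by rw [← genRank_congr e, ← dg_congr k e]; exact h.2⟩

theorem bdd_mono {M M' : ℤ} (hMM : M ≤ M') {A : X.Modules} (h : Bdd k M A) : Bdd k M' A :=
  ⟨fun G j hj hG => (h.1 G j hj hG).trans (by nlinarith [(Int.natCast_nonneg (genRank G))]),
    le_trans (by nlinarith [(Int.natCast_nonneg (genRank A))]) h.2⟩

theorem bdd_biprod {M : ℤ} {A B : X.Modules} (hA : FlatMod.IsFinLocFree A) (hB : FlatMod.IsFinLocFree B)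
    (h₁ : Bdd k M A) (h₂ : Bdd k M B) : Bdd k M (A ⊞ B) := by
  haveI := CurvLib.isNoetherian k (X := X)
  refine ⟨fun G j hj hG => ?_, ?_⟩
  · haveI := hj
    let q : G ⟶ A := j ≫ biprod.fst
    obtain ⟨hK, hI, hrk, hdg⟩ := CurveVBLib.ker_im_data (k := k) hG (VBResLib.isCoh_of_vb hA) q
    let v : kernel q ⟶ B := kernel.ι q ≫ j ≫ biprod.snd
    haveI : Mono v := Preadditive.mono_of_cancel_zero _ fun g hg => by
      rw [← cancel_mono (kernel.ι q ≫ j), zero_comp]
      apply biprod.hom_ext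
      · simp only [Category.assoc, zero_comp]
        rw [show j ≫ biprod.fst = q from rfl, kernel.condition, comp_zero]
      · simpa [v] using hg
    have b1 := h₁.1 _ (Abelian.image.ι q) inferInstance hI
    have b2 := h₂.1 _ v inferInstance hK
    rw [hdg, hrk]
    push_cast
    linarith
  · obtain ⟨e1, e2⟩ := dg_biprod k (VBResLib.isCoh_of_vb hA) (VBResLib.isCoh_of_vb hB)
      (VBResLib.isCoh_of_vb ((nice k).biprod hA hB))
    rw [e1, e2]
    push_cast
    linarith [h₁.2, h₂.2]

theorem bdd_biproduct {M : ℤ} {n : ℕ} {F : Fin n → X.Modules} (hF : ∀ i, FlatMod.IsFinLocFree (F i))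
    (h : ∀ i, Bdd k M (F i)) : Bdd k M (⨁ F) := by
  induction n with
  | zero =>
    have h0 := KSMod.isZero_of_isEmpty F
    refine ⟨fun G j hj hG => ?_, ?_⟩
    · haveI := hj
      have hz : IsZero G := IsZero.of_mono j h0
      rw [CurveVBLib.dg_of_isZero hz, CurveVBLib.genRank_of_isZero hz]; simp
    · rw [CurveVBLib.dg_of_isZero h0, CurveVBLib.genRank_of_isZero h0]; simp
  | succ n ih =>
    exact bdd_congr k hdim (KSMod.splitOff F 0).symm (bdd_biprod k hdim (hF 0) (vb_biproduct fun i => hF _) (h 0)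
      (ih (fun i => hF _) fun i => h _))

/-- The powers of a finite bundle are uniformly bounded. -/
theorem exists_bdd_pow {E : X.Modules} (hE : FlatMod.IsFinLocFree E) (hfin : (Occ E).Finite) :
    ∃ M : ℤ, 0 ≤ M ∧ ∀ n, Bdd k M (CohB1.tensorPow E n) := by
  classical
  have hb : ∀ c : ↥(Occ E), ∃ M : ℤ, 0 ≤ M ∧ Bdd k M (rep c.1) := fun c =>
    exists_bdd k hdim ((tens k).vRep hE c.2)
  choose M hM0 hM using hb
  haveI := hfin.fintype
  refine ⟨∑ c, M c, Finset.sum_nonneg fun c _ => hM0 c, fun n => ?_⟩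
  obtain ⟨m, Fs, -, hFv, ⟨e⟩, hcls⟩ := exists_dec (nice k) (vb_tensorPow k hE n)
  refine bdd_congr k hdim e.symm (bdd_biproduct k hdim hFv fun i => ?_)
  have hc : toSkeleton (Fs i) ∈ Occ E := ⟨n, by
    rw [pw_eq, hcls]
    exact Multiset.mem_map.2 ⟨i, Finset.mem_univ_val i, rfl⟩⟩
  obtain ⟨r⟩ := nonempty_rep_iso (Fs i)
  exact bdd_congr k hdim r (bdd_mono k hdim (Finset.single_le_sum (fun c _ => hM0 c) (Finset.mem_univ ⟨_, hc⟩))
    (hM ⟨_, hc⟩))

/-- Rank and degree of the powers. -/
theorem dg_tensorPow {E : X.Modules} (hE : FlatMod.IsFinLocFree E) (n : ℕ) :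
    genRank (CohB1.tensorPow E n) = genRank E ^ n ∧
      dg k (CohB1.tensorPow E n) * genRank E = n * genRank E ^ n * dg k E := by
  induction n with
  | zero =>
    have h1 : genRank (Coh.structureModule X) = 1 :=
      CurveVBLib.genRank_eq fun x => CurvLib.locFree_of_isInvertible CurvLib.isInvertible_structureModule x
    refine ⟨by simpa [CohB1.tensorPow] using h1, ?_⟩
    simp [CohB1.tensorPow, dg, h1]
  | succ n ih =>
    show genRank (CohB1.tensorMod _ E) = _ ∧ dg k (CohB1.tensorMod _ E) * _ = _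
    rw [genRank_tensor, dg_tensor k hdim (vb_tensorPow k hE n) hE, ih.1]
    refine ⟨(pow_succ _ n).symm, ?_⟩
    push_cast
    rw [pow_succ]
    linear_combination (genRank E : ℤ) * ih.2

/-- **Finite bundles are semistable of degree zero.** -/
theorem finite_degree {E : X.Modules} (hE : FlatMod.IsFinLocFree E) (hfin : (Occ E).Finite) :
    dg k E = 0 ∧ ∀ (G : X.Modules) (j : G ⟶ E), Mono j → Coh.IsCoh G → dg k G ≤ 0 := by
  obtain ⟨M, hM0, hM⟩ := exists_bdd_pow k hdim hE hfin
  have hEr := CurveVBLib.rank_genRank hE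
  have hup : ∀ (G : X.Modules) (j : G ⟶ E), Mono j → Coh.IsCoh G → dg k G ≤ 0 := by
    intro G j hj hG
    haveI := hj
    obtain ⟨hGr, -, -, -, hz⟩ := CurveVBLib.sub_data (k := k) hdim hEr j hG
    rcases Nat.eq_zero_or_pos (genRank G) with h0 | h0
    · rw [CurveVBLib.dg_of_isZero (hz h0)]
    have hGv := CurveVBLib.isFinLocFree_of_rank hGr
    have hmono : ∀ n, ∃ f : CohB1.tensorPow G n ⟶ CohB1.tensorPow E n, Mono f := fun n => by
      induction n with
      | zero => exact ⟨𝟙 _, inferInstance⟩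
      | succ n ih =>
        obtain ⟨f, hf⟩ := ih
        exact mono_tensor k (vb_tensorPow k hE n) hGv f j
    by_contra hd
    push Not at hd
    obtain ⟨N, hN⟩ : ∃ N : ℕ, (N : ℤ) > M * genRank G := ⟨(M * genRank G).toNat + 1, by omega⟩
    obtain ⟨f, hf⟩ := hmono N
    obtain ⟨h1, h2⟩ := dg_tensorPow k hdim hGv N
    have h3 := (hM N).1 _ f hf (VBResLib.isCoh_of_vb (vb_tensorPow k hGv N))
    rw [h1] at h3
    push_cast at h3
    have hs : (0 : ℤ) < (genRank G : ℤ) ^ N := by positivity
    have h4 : (N : ℤ) * dg k G ≤ M * genRank G := by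
      nlinarith [mul_le_mul_of_nonneg_right h3 (Int.natCast_nonneg (genRank G))]
    nlinarith
  refine ⟨le_antisymm (hup E (𝟙 E) inferInstance (VBResLib.isCoh_of_vb hE)) ?_, hup⟩
  rcases Nat.eq_zero_or_pos (genRank E) with h0 | h0
  · obtain ⟨-, -, -, -, hz⟩ := CurveVBLib.sub_data (k := k) hdim hEr (𝟙 E) (VBResLib.isCoh_of_vb hE)
    rw [CurveVBLib.dg_of_isZero (hz h0)]
  by_contra hd
  push Not at hd
  obtain ⟨N, hN⟩ : ∃ N : ℕ, (N : ℤ) > M * genRank E := ⟨(M * genRank E).toNat + 1, by omega⟩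
  obtain ⟨h1, h2⟩ := dg_tensorPow k hdim hE N
  have h3 := (hM N).2
  rw [h1] at h3
  push_cast at h3
  have hs : (0 : ℤ) < (genRank E : ℤ) ^ N := by positivity
  have h4 : -(M * genRank E) ≤ (N : ℤ) * dg k E := by
    nlinarith [mul_le_mul_of_nonneg_right h3 (Int.natCast_nonneg (genRank E))]
  nlinarith

end FinBundleLib

end
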