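import Groth.Agent.FinBundleLib.Tensor
import Groth.Agent.KSModLib.Isotypical
import Groth.Agent.KSModLib.Coherent
import Groth.Agent.HilbPolyLib.Twist
import Groth.Agent.VBResLib.KFunct
import Groth.Agent.PerfLib.Strict
import Mathlib.Algebra.Polynomial.Degree.Lemmas

/-! Finite bundles in the sense of Weil on a proper integral scheme. -/

set_option autoImplicit false
set_option backward.isDefEq.respectTransparency false
set_option backward.isDefEq.respectTransparency.types false
universe u

noncomputable section

open CategoryTheory CategoryTheory.Limits AlgebraicGeometry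

namespace FinBundleLib

attribute [local instance] Abelian.hasFiniteBiproducts

open scoped Classical

variable {X : Scheme.{u}}

/-- `P(E)`. -/
abbrev polyMod (P : Polynomial ℕ) (E : X.Modules) : X.Modules :=
  ∐ fun i : Fin (P.natDegree + 1) => ∐ fun _ : Fin (P.coeff ↑i) => CohB1.tensorPow E ↑i

/-- Finiteness in the sense of Weil. -/
abbrev IsWeilFinite (E : X.Modules) : Prop :=
  ∃ P Q : Polynomial ℕ, P ≠ Q ∧ Nonempty (polyMod P E ≅ polyMod Q E)

/-- The classes occurring in the tensor powers. -/
abbrev Occ (E : X.Modules) : Set (Skeleton X.Modules) := occ (DCoh.tensorBi (X := X)) (Coh.structureModule X) E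

theorem pw_eq (E : X.Modules) : ∀ n, pw (DCoh.tensorBi (X := X)) (Coh.structureModule X) E n = CohB1.tensorPow E n
  | 0 => rfl
  | n + 1 => by rw [pw, pw_eq E n]; rfl

theorem vb_biproduct {n : ℕ} {F : Fin n → X.Modules} (h : ∀ i, FlatMod.IsFinLocFree (F i)) :
    FlatMod.IsFinLocFree (⨁ F) := by
  induction n with
  | zero =>
    have : IsZero (⨁ F) := KSMod.isZero_of_isEmpty F
    exact VBResLib.vb_of_rank (fun x => ⟨⊤, trivial,
      ⟨(((Scheme.Modules.restrictFunctor (⊤ : X.Opens).ι).map_isZero this).iso
        ((IsZero.iff_id_eq_zero _).mpr (Sigma.hom_ext _ _ fun j : Fin 0 => j.elim0)))⟩⟩)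
  | succ n ih =>
    exact Groth.Agent.PerfLib.isFinLocFree_of_iso (KSMod.splitOff F 0).symm
      (Groth.Agent.PerfLib.isFinLocFree_biprod (h 0) (ih fun i => h _))

variable (k : Type u) [Field k] [X.Over (Spec (CommRingCat.of k))] [IsProper (X ↘ Spec (CommRingCat.of k))]

theorem nice : Nice k (fun M : X.Modules => FlatMod.IsFinLocFree M) := by
  haveI := CurvLib.isNoetherian k (X := X)
  refine ⟨fun e h => Groth.Agent.PerfLib.isFinLocFree_of_iso e h, fun {A B} h => KSMod.isFinLocFree_fst (Iso.refl (A ⊞ B)) h,
    fun ha hb => Groth.Agent.PerfLib.isFinLocFree_biprod ha hb, fun {A} h => ?_⟩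
  exact KSMod.finite_hom (k := k) (VBResLib.isCoh_of_vb h) (VBResLib.isCoh_of_vb h)

/-- The tensor structure on bundles. -/
theorem tens : Tens k (fun M : X.Modules => FlatMod.IsFinLocFree M) (DCoh.tensorBi (X := X)) (Coh.structureModule X) := by
  haveI := CurvLib.isNoetherian k (X := X)
  exact
  { nice := nice k
    vOne := AmpleDevLib.isFinLocFree_of_isInvertible (CurvLib.isInvertible_structureModule)
    vT := fun hA hB => VBResLib.vb_tensor _ hA hB
    add := fun B => KFlatLib.additive_tensorBi_flip B
    comm := fun A B => ⟨HilbPolyLib.swapIso A B⟩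
    assoc := fun A B D => ⟨HilbPolyLib.assocIso A B D⟩
    unit := fun A => ⟨HilbPolyLib.unitLeft A⟩ }

include k in
theorem vb_tensorPow {E : X.Modules} (hE : FlatMod.IsFinLocFree E) (n : ℕ) :
    FlatMod.IsFinLocFree (CohB1.tensorPow E n) := pw_eq E n ▸ (tens k).vPw hE n

include k in
theorem vb_polyMod {E : X.Modules} (hE : FlatMod.IsFinLocFree E) (P : Polynomial ℕ) :
    FlatMod.IsFinLocFree (polyMod P E) := by
  haveI := CurvLib.isNoetherian k (X := X)
  exact Groth.Agent.PerfLib.isFinLocFree_of_iso (biproduct.isoCoproduct _) (vb_biproduct fun i =>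
    Groth.Agent.PerfLib.isFinLocFree_of_iso (biproduct.isoCoproduct _) (vb_biproduct fun _ => vb_tensorPow k hE _))

include k in
theorem cls_polyMod {E : X.Modules} (hE : FlatMod.IsFinLocFree E) (P : Polynomial ℕ) {N : ℕ}
    (hN : P.natDegree < N) :
    cls (polyMod P E) = ∑ i ∈ Finset.range N, P.coeff i • cls (CohB1.tensorPow E i) := by
  haveI := CurvLib.isNoetherian k (X := X)
  have hi : ∀ i : ℕ, cls (∐ fun _ : Fin (P.coeff i) => CohB1.tensorPow E i) = P.coeff i • cls (CohB1.tensorPow E i) := fun i => by
    have h := vb_biproduct (F := fun _ : Fin (P.coeff i) => CohB1.tensorPow E i) fun _ => vb_tensorPow k hE i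
    rw [cls_congr (nice k) (biproduct.isoCoproduct _).symm
      (Groth.Agent.PerfLib.isFinLocFree_of_iso (biproduct.isoCoproduct _) h), cls_biproduct (nice k) h]
    simp
  rw [cls_congr (nice k) (biproduct.isoCoproduct _).symm (vb_polyMod k hE P), cls_biproduct (nice k)
    (Groth.Agent.PerfLib.isFinLocFree_of_iso (biproduct.isoCoproduct _).symm (vb_polyMod k hE P))]
  simp only [hi]
  rw [← Finset.sum_range fun i => P.coeff i • cls (CohB1.tensorPow E i)]
  refine Finset.sum_subset (fun i hi' => Finset.mem_range.2 (by have := Finset.mem_range.1 hi'; omega)) fun i _ hi' => ?_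
  rw [Polynomial.coeff_eq_zero_of_natDegree_lt (by simp only [Finset.mem_range] at hi'; omega), zero_smul]

include k in
/-- A finite bundle has finitely many classes of summands in its powers, and conversely. -/
theorem isWeilFinite_iff {E : X.Modules} (hE : FlatMod.IsFinLocFree E) :
    IsWeilFinite E ↔ (Occ E).Finite := by
  constructor
  · rintro ⟨P, Q, hPQ, ⟨e⟩⟩
    let N := max P.natDegree Q.natDegree + 1
    have h : cls (polyMod P E) = cls (polyMod Q E) := cls_congr (nice k) e (vb_polyMod k hE P)
    rw [cls_polyMod k hE P (N := N) (by omega), cls_polyMod k hE Q (N := N) (by omega)] at h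
    refine (tens k).finite_occ_of_rel hE N P.coeff Q.coeff ?_ (by simpa only [pw_eq] using h)
    by_contra hno
    push Not at hno
    refine hPQ (Polynomial.ext fun i => ?_)
    rcases Nat.lt_or_ge i N with hlt | hge
    · exact hno i hlt
    · rw [Polynomial.coeff_eq_zero_of_natDegree_lt (by omega), Polynomial.coeff_eq_zero_of_natDegree_lt (by omega)]
  · intro hfin
    obtain ⟨N, p, q, ⟨j, hj, hjne⟩, heq⟩ := (tens k).exists_rel hfin
    let mk : (ℕ → ℕ) → Polynomial ℕ := fun p => ∑ i ∈ Finset.range N, Polynomial.monomial i (p i)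
    have hc : ∀ p i, (mk p).coeff i = if i < N then p i else 0 := fun p i => by
      simp [mk, Polynomial.finsetSum_coeff, Polynomial.coeff_monomial]
    refine ⟨mk p, mk q, fun h => hjne (by simpa [hc, hj] using congrArg (Polynomial.coeff · j) h), ?_⟩
    refine nonempty_iso_of_cls_eq (nice k) (vb_polyMod k hE _) (vb_polyMod k hE _) ?_
    let M := max (max (mk p).natDegree (mk q).natDegree + 1) N
    rw [cls_polyMod k hE (mk p) (N := M) (by omega), cls_polyMod k hE (mk q) (N := M) (by omega)]
    have hs : ∀ p, ∑ i ∈ Finset.range M, (mk p).coeff i • cls (CohB1.tensorPow E i) =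
        ∑ i ∈ Finset.range N, p i • cls (CohB1.tensorPow E i) := fun p => by
      refine (Finset.sum_subset (s₁ := Finset.range N) (fun i hi => Finset.mem_range.2 (by have := Finset.mem_range.1 hi; omega))
        fun i _ hi => ?_).symm.trans (Finset.sum_congr rfl fun i hi => ?_)
      · rw [hc, if_neg (by simpa using hi), zero_smul]
      · rw [hc, if_pos (Finset.mem_range.1 hi)]
    rw [hs, hs]
    simpa only [pw_eq] using heq

end FinBundleLib

end
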