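import Groth.Agent.KSModLib.Decomp

/-! The multiset of indecomposable summands of an object with finite dimensional endomorphisms. -/

set_option autoImplicit false
universe w v u

noncomputable section

open CategoryTheory CategoryTheory.Limits

namespace FinBundleLib

attribute [local instance] Abelian.hasFiniteBiproducts

open scoped Classical

variable {C : Type u} [Category.{v} C] [Abelian C]

/-- A class of objects closed under summands, with finite dimensional endomorphisms. -/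
structure Nice (k : Type w) [Field k] [Linear k C] (V : C → Prop) : Prop where
  iso : ∀ {A B : C}, (A ≅ B) → V A → V B
  left : ∀ {A B : C}, V (A ⊞ B) → V A
  biprod : ∀ {A B : C}, V A → V B → V (A ⊞ B)
  fin : ∀ {A : C}, V A → Module.Finite k (A ⟶ A)

/-- A representative. -/
def rep (c : Skeleton C) : C := (fromSkeleton C).obj c

theorem toSkeleton_rep (c : Skeleton C) : toSkeleton (rep c) = c := toSkeleton_fromSkeleton_obj c

theorem nonempty_rep_iso (A : C) : Nonempty (rep (toSkeleton A) ≅ A) :=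
  toSkeleton_eq_toSkeleton_iff.1 (toSkeleton_rep _)

/-- The classes of the indecomposable summands. -/
def cls (M : C) : Multiset (Skeleton C) :=
  if h : ∃ (n : ℕ) (Fs : Fin n → C), (∀ i, KSMod.Indec (Fs i)) ∧ Nonempty (M ≅ ⨁ Fs) then
    Finset.univ.val.map (fun i => toSkeleton (h.choose_spec.choose i)) else 0

variable {k : Type w} [Field k] [Linear k C] {V : C → Prop}

theorem Nice.summand (hV : Nice k V) {n : ℕ} {Fs : Fin n → C} (h : V (⨁ Fs)) (i : Fin n) : V (Fs i) := by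
  rcases n with _ | n
  · exact i.elim0
  · exact hV.left (hV.iso (KSMod.splitOff Fs i) h)

theorem Nice.right (hV : Nice k V) {A B : C} (h : V (A ⊞ B)) : V B :=
  hV.left (hV.iso (biprod.braiding A B) h)

theorem cls_eq (hV : Nice k V) {M : C} (hM : V M) {n : ℕ} {Fs : Fin n → C} (hF : ∀ i, KSMod.Indec (Fs i))
    (e : M ≅ ⨁ Fs) : cls M = Finset.univ.val.map (fun i => toSkeleton (Fs i)) := by
  have h : ∃ (n : ℕ) (Fs : Fin n → C), (∀ i, KSMod.Indec (Fs i)) ∧ Nonempty (M ≅ ⨁ Fs) := ⟨n, Fs, hF, ⟨e⟩⟩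
  rw [cls, dif_pos h]
  obtain ⟨hG, ⟨f⟩⟩ := h.choose_spec.choose_spec
  obtain ⟨σ, hσ⟩ := KSMod.unique_decomp (k := k) _ _ _ _ hF hG
    (fun i => hV.fin (hV.summand (hV.iso e hM) i)) (e.symm ≪≫ f)
  have hfun : (fun i => toSkeleton (Fs i)) = (fun j => toSkeleton (h.choose_spec.choose j)) ∘ σ :=
    funext fun i => toSkeleton_eq_toSkeleton_iff.2 (hσ i)
  rw [hfun, ← Multiset.map_map, ← Multiset.map_univ_val_equiv σ]

theorem exists_dec (hV : Nice k V) {M : C} (hM : V M) :
    ∃ (n : ℕ) (Fs : Fin n → C), (∀ i, KSMod.Indec (Fs i)) ∧ (∀ i, V (Fs i)) ∧ Nonempty (M ≅ ⨁ Fs) ∧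
      cls M = Finset.univ.val.map (fun i => toSkeleton (Fs i)) := by
  haveI := hV.fin hM
  obtain ⟨n, Fs, h, -, ⟨e⟩⟩ := KSMod.exists_decomp (k := k) M
  exact ⟨n, Fs, h, fun i => hV.summand (hV.iso e hM) i, ⟨e⟩, cls_eq hV hM h e⟩

theorem cls_congr (hV : Nice k V) {A B : C} (e : A ≅ B) (hA : V A) : cls A = cls B := by
  obtain ⟨n, Fs, h, -, ⟨f⟩, h'⟩ := exists_dec hV hA
  rw [h', cls_eq hV (hV.iso e hA) h (e.symm ≪≫ f)]

theorem cls_of_isZero (hV : Nice k V) {A : C} (h0 : IsZero A) (hA : V A) : cls A = 0 := by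
  rw [cls_eq hV hA (Fs := fun i : Fin 0 => i.elim0) (fun i => i.elim0) (h0.iso (KSMod.isZero_of_isEmpty _))]
  rfl

/-- A biproduct over a sum of index types. -/
def sumIso {n m : ℕ} (F : Fin n → C) (G : Fin m → C) : (⨁ F) ⊞ (⨁ G) ≅ ⨁ (Sum.elim F G) where
  hom := biprod.desc (biproduct.desc fun i => biproduct.ι (Sum.elim F G) (Sum.inl i))
    (biproduct.desc fun j => biproduct.ι (Sum.elim F G) (Sum.inr j))
  inv := biproduct.desc fun s => match s with
    | Sum.inl i => biproduct.ι F i ≫ biprod.inl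
    | Sum.inr j => biproduct.ι G j ≫ biprod.inr
  hom_inv_id := by
    refine biprod.hom_ext' _ _ (biproduct.hom_ext' _ _ fun i => ?_) (biproduct.hom_ext' _ _ fun j => ?_)
    · rw [biprod.inl_desc_assoc, Category.comp_id]
      refine (Category.assoc _ _ _).symm.trans ((congrArg (· ≫ _) (biproduct.ι_desc _ i)).trans ?_)
      exact biproduct.ι_desc _ (Sum.inl i)
    · rw [biprod.inr_desc_assoc, Category.comp_id]
      refine (Category.assoc _ _ _).symm.trans ((congrArg (· ≫ _) (biproduct.ι_desc _ j)).trans ?_)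
      exact biproduct.ι_desc _ (Sum.inr j)
  inv_hom_id := by
    refine biproduct.hom_ext' _ _ fun s => ?_
    rcases s with i | j
    · rw [biproduct.ι_desc_assoc, Category.comp_id]
      exact (Category.assoc _ _ _).trans ((congrArg (biproduct.ι F i ≫ ·) (biprod.inl_desc _ _)).trans (biproduct.ι_desc _ i))
    · rw [biproduct.ι_desc_assoc, Category.comp_id]
      exact (Category.assoc _ _ _).trans ((congrArg (biproduct.ι G j ≫ ·) (biprod.inr_desc _ _)).trans (biproduct.ι_desc _ j))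

theorem cls_biprod (hV : Nice k V) {A B : C} (hA : V A) (hB : V B) : cls (A ⊞ B) = cls A + cls B := by
  obtain ⟨n, Fs, hF, -, ⟨e⟩, hA'⟩ := exists_dec hV hA
  obtain ⟨m, Gs, hG, -, ⟨f⟩, hB'⟩ := exists_dec hV hB
  let σ : Fin n ⊕ Fin m ≃ Fin (n + m) := finSumFinEquiv
  have hind : ∀ l, KSMod.Indec (Sum.elim Fs Gs (σ.symm l)) := fun l => by
    rcases σ.symm l with i | j
    · exact hF i
    · exact hG j
  rw [cls_eq hV (hV.biprod hA hB) hind
    (biprod.mapIso e f ≪≫ sumIso Fs Gs ≪≫ (biproduct.reindex σ.symm (Sum.elim Fs Gs)).symm), hA', hB',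
    show (fun l => toSkeleton (Sum.elim Fs Gs (σ.symm l))) = (fun s => toSkeleton (Sum.elim Fs Gs s)) ∘ σ.symm from rfl,
    ← Multiset.map_map, Multiset.map_univ_val_equiv]
  rw [← Finset.univ_disjSum_univ]
  simp [Finset.disjSum, Multiset.disjSum, Function.comp_def]

theorem cls_biproduct (hV : Nice k V) : ∀ {n : ℕ} {F : Fin n → C}, V (⨁ F) → cls (⨁ F) = ∑ i, cls (F i)
  | 0, F, h => by rw [cls_of_isZero hV (KSMod.isZero_of_isEmpty F) h]; simp
  | n + 1, F, h => by
    have h' := hV.iso (KSMod.splitOff F 0) h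
    rw [cls_congr hV (KSMod.splitOff F 0) h, cls_biprod hV (hV.left h') (hV.right h'),
      cls_biproduct hV (hV.right h'), Fin.sum_univ_succ]
    rfl

theorem exists_of_mem_cls (hV : Nice k V) {M : C} (hM : V M) {c : Skeleton C} (hc : c ∈ cls M) :
    V (rep c) ∧ KSMod.Indec (rep c) ∧ ∃ B : C, Nonempty (M ≅ rep c ⊞ B) := by
  obtain ⟨n, Fs, hI, hF, ⟨e⟩, h⟩ := exists_dec hV hM
  rw [h, Multiset.mem_map] at hc
  obtain ⟨i, -, rfl⟩ := hc
  obtain ⟨r⟩ := nonempty_rep_iso (Fs i)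
  refine ⟨hV.iso r.symm (hF i), KSMod.indec_of_iso r.symm (hI i), ?_⟩
  rcases n with _ | n
  · exact i.elim0
  · exact ⟨_, ⟨e ≪≫ KSMod.splitOff Fs i ≪≫ biprod.mapIso r.symm (Iso.refl _)⟩⟩

/-- Objects with the same summands are isomorphic. -/
theorem nonempty_iso_of_cls_eq (hV : Nice k V) {A B : C} (hA : V A) (hB : V B) (h : cls A = cls B) :
    Nonempty (A ≅ B) := by
  obtain ⟨n, Fs, -, -, ⟨e⟩, hA'⟩ := exists_dec hV hA
  obtain ⟨m, Gs, -, -, ⟨f⟩, hB'⟩ := exists_dec hV hB
  rw [hA', hB'] at h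
  have hc : ∀ c, Fintype.card {i // toSkeleton (Fs i) = c} = Fintype.card {j // toSkeleton (Gs j) = c} := fun c => by
    have := congrArg (Multiset.count c) h
    simp only [Multiset.count_map] at this
    simp only [Fintype.card_subtype]
    simpa [Finset.card_def, Finset.filter_val, eq_comm] using this
  let σ : Fin n ≃ Fin m := (Equiv.sigmaFiberEquiv fun i => toSkeleton (Fs i)).symm.trans
    ((Equiv.sigmaCongrRight fun c => Fintype.equivOfCardEq (hc c)).trans (Equiv.sigmaFiberEquiv fun j => toSkeleton (Gs j)))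
  have hσ : ∀ i, toSkeleton (Gs (σ i)) = toSkeleton (Fs i) := fun i =>
    ((Fintype.equivOfCardEq (hc (toSkeleton (Fs i)))) ⟨i, rfl⟩).2
  exact ⟨e ≪≫ biproduct.whiskerEquiv σ (fun i => (toSkeleton_eq_toSkeleton_iff.1 (hσ i)).some) ≪≫ f.symm⟩

end FinBundleLib

end
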