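import Groth.Agent.FinBundleLib.Bundle
import Groth.Agent.FinCovLib.Trace
import Groth.Agent.ProjFormLib.Proj
import Groth.Agent.S9716
import Groth.Agent.S19695
import Groth.Agent.CurveVBLib.Basic
import Mathlib.Algebra.CharP.Invertible

/-! Bundles trivialised by a finite locally free cover in characteristic zero are finite. -/

set_option autoImplicit false
set_option backward.isDefEq.respectTransparency false
set_option backward.isDefEq.respectTransparency.types false
universe u

noncomputable section

open CategoryTheory CategoryTheory.Limits AlgebraicGeometry Opposite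

namespace FinBundleLib

attribute [local instance] Abelian.hasFiniteBiproducts

variable {X Y : Scheme.{u}} (f : Y ⟶ X) [QuasiCompact f] [QuasiSeparated f]

/-- The two forms of the direct image of the structure sheaf. -/
def dirIso : (RelSpec.QCAlg.directImage f).toModule ≅ (Scheme.Modules.pushforward f).obj (Coh.structureModule Y) :=
  let A := RelSpec.QCAlg.directImage f
  { hom := ⟨letI := A.moduleSect
      PresheafOfModules.homMk
        { app := fun U => AddCommGrpCat.ofHom (AddMonoidHom.id _)
          naturality := fun U V i => rfl }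
        (fun U r s => rfl)⟩
    inv := ⟨letI := A.moduleSect
      PresheafOfModules.homMk
        { app := fun U => AddCommGrpCat.ofHom (AddMonoidHom.id _)
          naturality := fun U V i => rfl }
        (fun U r s => rfl)⟩
    hom_inv_id := rfl
    inv_hom_id := rfl }

omit [QuasiCompact f] [QuasiSeparated f] in
theorem subsingleton_top_of_rank_zero [IsIntegral X]
    (h : FlatMod.IsFinLocFreeOfRank 0 ((Scheme.Modules.pushforward f).obj (Coh.structureModule Y))) :
    Subsingleton Γ(Y, ⊤) := by
  have hz := CurveVBLib.isZero_of_genRank_zero h (𝟙 _) h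
  refine subsingleton_of_zero_eq_one ?_
  have := congrArg (fun φ => (Scheme.Modules.Hom.app φ ⊤) (show Γ(Y, ⊤) from 1)) ((IsZero.iff_id_eq_zero _).1 hz)
  simpa using this.symm

variable (k : Type u) [Field k] [X.Over (Spec (CommRingCat.of k))] [IsProper (X ↘ Spec (CommRingCat.of k))]
  [IsIntegral X] [CharZero k]

include k in
/-- The structure sheaf is a direct summand of the direct image. -/
theorem exists_push_split [IsFinite f] [Flat f] [LocallyOfFinitePresentation f] [Surjective f] :
    ∃ C : X.Modules, FlatMod.IsFinLocFree C ∧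
      FlatMod.IsFinLocFree ((Scheme.Modules.pushforward f).obj (Coh.structureModule Y)) ∧
      Nonempty ((Scheme.Modules.pushforward f).obj (Coh.structureModule Y) ≅ Coh.structureModule X ⊞ C) := by
  haveI := CurvLib.isNoetherian k (X := X)
  let A := RelSpec.QCAlg.directImage f
  have hP : FlatMod.IsFinLocFree ((Scheme.Modules.pushforward f).obj (Coh.structureModule Y)) :=
    ((Groth.Agent.S9716.result f).2 ⟨inferInstance, inferInstance, inferInstance⟩).2
  have hA : FlatMod.IsFinLocFree A.toModule := Groth.Agent.PerfLib.isFinLocFree_of_iso (dirIso f).symm hP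
  have hd := CurveVBLib.rank_genRank hA
  let d := CurvLib.genRank A.toModule
  have hd0 : d ≠ 0 := fun h0 => by
    have h : FlatMod.IsFinLocFreeOfRank 0 ((Scheme.Modules.pushforward f).obj (Coh.structureModule Y)) := fun x => by
      obtain ⟨U, hU, ⟨e⟩⟩ := (show FlatMod.IsFinLocFreeOfRank 0 A.toModule from h0 ▸ hd) x
      exact ⟨U, hU, ⟨(Scheme.Modules.restrictFunctor U.ι).mapIso (dirIso f).symm ≪≫ e⟩⟩
    haveI := subsingleton_top_of_rank_zero f h
    haveI : Nonempty Y := (Surjective.surj (f := f) (Classical.arbitrary X)).nonempty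
    haveI : Nonempty (⊤ : Y.Opens) := ⟨⟨Classical.arbitrary Y, trivial⟩⟩
    haveI : Nontrivial Γ(Y, ⊤) := Scheme.component_nontrivial Y ⊤
    exact not_subsingleton Γ(Y, ⊤) inferInstance
  have hτ := FinCovLib.isTrace_traceHom hA
  let s := FinCov.strMod A
  let τ := FinCovLib.traceHom hA
  have hsτ : s ≫ τ = (d : k) • 𝟙 (Coh.structureModule X) := by
    rw [Nat.cast_smul_eq_nsmul]
    exact Groth.Agent.S19695.result A d hd τ hτ
  let p := (d : k)⁻¹ • τ
  have hsp : s ≫ p = 𝟙 _ := by
    rw [Linear.comp_smul, hsτ, smul_smul, inv_mul_cancel₀ (Nat.cast_ne_zero.2 hd0), one_smul]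
  let S : ShortComplex X.Modules := ShortComplex.mk s (cokernel.π s) (cokernel.condition s)
  haveI : Mono s := (IsSplitMono.mk' ⟨p, hsp⟩).mono
  have hS : S.Exact := ShortComplex.exact_of_g_is_cokernel _ (cokernelIsCokernel s)
  haveI : Epi S.g := inferInstanceAs (Epi (cokernel.π s))
  let e : A.toModule ≅ Coh.structureModule X ⊞ cokernel s :=
    (ShortComplex.Splitting.ofExactOfRetraction S hS p hsp inferInstance).isoBinaryBiproduct
  exact ⟨_, (nice k).right (Groth.Agent.PerfLib.isFinLocFree_of_iso e hA), hP, ⟨(dirIso f).symm ≪≫ e⟩⟩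

omit [IsIntegral X] [CharZero k] in
include k in
theorem vbMod {A B : X.Modules} (hA : FlatMod.IsFinLocFree A) (hB : FlatMod.IsFinLocFree B) :
    FlatMod.IsFinLocFree (CohB1.tensorMod A B) := (tens k).vT hA hB

omit [IsIntegral X] [CharZero k] in
include k in
theorem mem_cls_pow {r : ℕ} {A E : X.Modules} (hA : FlatMod.IsFinLocFree A) (hE : FlatMod.IsFinLocFree E)
    (π : CohB1.tensorMod A E ≅ ⨁ (fun _ : Fin r => A)) :
    ∀ c ∈ cls (CohB1.tensorMod A E), c ∈ cls A := fun c hc => by
  rw [cls_congr (nice k) π ((tens k).vT hA hE), cls_biproduct (nice k) (vb_biproduct fun _ => hA)] at hc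
  simp only [Finset.sum_const, Finset.card_univ, Fintype.card_fin, Multiset.mem_nsmul] at hc
  exact hc.2

omit [IsIntegral X] [CharZero k] in
include k in
theorem finite_occ_of_absorb {r : ℕ} {A C E : X.Modules} (hA : FlatMod.IsFinLocFree A) (hC : FlatMod.IsFinLocFree C)
    (hE : FlatMod.IsFinLocFree E) (σ : A ≅ Coh.structureModule X ⊞ C)
    (π : CohB1.tensorMod A E ≅ ⨁ (fun _ : Fin r => A)) : (Occ E).Finite := by
  haveI := CurvLib.isNoetherian k (X := X)
  have hT := tens k (X := X)
  have hAE : ∀ c ∈ cls (CohB1.tensorMod A E), c ∈ cls A := mem_cls_pow k hA hE π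
  have key : ∀ n, ∀ z ∈ cls (CohB1.tensorMod A (CohB1.tensorPow E n)), z ∈ cls A := fun n => by
    induction n with
    | zero =>
      intro z hz
      rwa [cls_congr (nice k) (show CohB1.tensorMod A (CohB1.tensorPow E 0) ≅ A from
        HilbPolyLib.swapIso _ _ ≪≫ HilbPolyLib.unitLeft A) (vbMod k hA (vb_tensorPow k hE 0))] at hz
    | succ n ih =>
      intro z hz
      have hn := vb_tensorPow k hE n
      rw [cls_congr (nice k) (show CohB1.tensorMod A (CohB1.tensorPow E (n + 1)) ≅
        CohB1.tensorMod (CohB1.tensorMod A E) (CohB1.tensorPow E n) from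
        HilbPolyLib.congrRight A (HilbPolyLib.swapIso _ _) ≪≫ (HilbPolyLib.assocIso _ _ _).symm)
        (vbMod k hA (vb_tensorPow k hE (n + 1)))] at hz
      obtain ⟨c, hc, hzc⟩ := (hT.mem_cls_tensor (vbMod k hA hE) hn).1 hz
      exact ih z ((hT.mem_cls_tensor hA hn).2 ⟨c, hAE c hc, hzc⟩)
  classical
  refine (cls A).toFinset.finite_toSet.subset fun z hz => ?_
  obtain ⟨n, hn⟩ := hz
  rw [pw_eq] at hn
  have hv := vb_tensorPow k hE n
  obtain ⟨δ⟩ := hT.distrib (Coh.structureModule X) C (CohB1.tensorPow E n)
  have : z ∈ cls (CohB1.tensorMod A (CohB1.tensorPow E n)) := by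
    rw [cls_congr (nice k) (show CohB1.tensorMod A (CohB1.tensorPow E n) ≅ _ from HilbPolyLib.congrLeft σ _ ≪≫ δ)
      (vbMod k hA hv), cls_biprod (nice k) (hT.vT hT.vOne hv) (hT.vT hC hv), Multiset.mem_add]
    left
    exact (congrArg (fun s => z ∈ s) (cls_congr (nice k) (HilbPolyLib.unitLeft (CohB1.tensorPow E n))
      (vbMod k hT.vOne hv))).mpr hn
  simpa using key n z this

include k in
/-- **Bundles trivialised by a finite locally free cover are finite.** -/
theorem isWeilFinite_of_trivialised [IsFinite f] [Flat f] [LocallyOfFinitePresentation f] [Surjective f]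
    {r : ℕ} {E : X.Modules} (hE : FlatMod.IsFinLocFree E)
    (e : (Scheme.Modules.pullback f).obj E ≅ FlatMod.freeMod Y r) : IsWeilFinite E := by
  haveI := CurvLib.isNoetherian k (X := X)
  obtain ⟨C, hC, hA, ⟨σ⟩⟩ := exists_push_split f k
  let A := (Scheme.Modules.pushforward f).obj (Coh.structureModule Y)
  have hT := tens k (X := X)
  let G := Scheme.Modules.pushforward f
  haveI : G.Additive := inferInstance
  let Fs : Fin r → X.Modules := fun _ => A
  have hproj : Nonempty (CohB1.tensorMod A E ≅ ⨁ Fs) :=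
    ⟨HilbPolyLib.swapIso A E ≪≫ (ProjFormLib.projIso' f E hE).app (Coh.structureModule Y) ≪≫
      G.mapIso (HilbPolyLib.swapIso _ _ ≪≫ HilbPolyLib.unitLeft _ ≪≫ e ≪≫ (biproduct.isoCoproduct _).symm) ≪≫
      G.mapBiproduct _⟩
  obtain ⟨π⟩ := hproj
  clear e
  exact (isWeilFinite_iff k hE).2 (finite_occ_of_absorb k hA hC hE σ π)

end FinBundleLib

end
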