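import Groth.Agent.FinBundleLib.Classes
import Mathlib.CategoryTheory.Preadditive.AdditiveFunctor
import Mathlib.LinearAlgebra.Dimension.Finrank

/-! Finite objects in the sense of Weil for a tensor product compatible with direct sums. -/

set_option autoImplicit false
set_option linter.unusedSectionVars false
universe w v u

noncomputable section

open CategoryTheory CategoryTheory.Limits

namespace FinBundleLib

attribute [local instance] Abelian.hasFiniteBiproducts

open scoped Classical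

variable {C : Type u} [Category.{v} C] [Abelian C] (k : Type w) [Field k] [Linear k C]

/-- The structure used: a symmetric associative additive tensor product on nice objects. -/
structure Tens (V : C → Prop) (T : C ⥤ C ⥤ C) (one : C) : Prop where
  nice : Nice k V
  vOne : V one
  vT : ∀ {A B : C}, V A → V B → V ((T.obj A).obj B)
  add : ∀ B : C, (T.flip.obj B).Additive
  comm : ∀ A B : C, Nonempty ((T.obj A).obj B ≅ (T.obj B).obj A)
  assoc : ∀ A B D : C, Nonempty ((T.obj ((T.obj A).obj B)).obj D ≅ (T.obj A).obj ((T.obj B).obj D))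
  unit : ∀ A : C, Nonempty ((T.obj one).obj A ≅ A)

variable {k} {V : C → Prop} {T : C ⥤ C ⥤ C} {one : C}

/-- The tensor powers. -/
def pw (T : C ⥤ C ⥤ C) (one E : C) : ℕ → C
  | 0 => one
  | n + 1 => (T.obj (pw T one E n)).obj E

/-- The classes occurring in some tensor power. -/
def occ (T : C ⥤ C ⥤ C) (one E : C) : Set (Skeleton C) := {c | ∃ n, c ∈ cls (pw T one E n)}

/-- The tensor product of two classes. -/
abbrev tc (T : C ⥤ C ⥤ C) (c : Skeleton C) (E : C) : C := (T.obj (rep c)).obj E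

namespace Tens

variable (h : Tens k V T one)

include h

theorem vPw {E : C} (hE : V E) (n : ℕ) : V (pw T one E n) := by
  induction n with
  | zero => exact h.vOne
  | succ n ih => exact h.vT ih hE

/-- `(A ⊞ B) ⊗ E ≅ (A ⊗ E) ⊞ (B ⊗ E)`. -/
theorem distrib (A B E : C) :
    Nonempty ((T.obj (A ⊞ B)).obj E ≅ (T.obj A).obj E ⊞ (T.obj B).obj E) := by
  haveI := h.add E
  haveI := preservesBinaryBiproducts_of_preservesBiproducts (T.flip.obj E)
  exact ⟨(T.flip.obj E).mapBiprod A B⟩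

theorem cls_tensor {M E : C} (hM : V M) (hE : V E) :
    cls ((T.obj M).obj E) = ((cls M).map fun c => cls (tc T c E)).sum := by
  obtain ⟨n, Fs, -, hF, ⟨e⟩, hcls⟩ := exists_dec h.nice hM
  haveI := h.add E
  let G : C ⥤ C := T.flip.obj E
  let i : (T.obj M).obj E ≅ ⨁ (fun l => G.obj (Fs l)) := G.mapIso e ≪≫ G.mapBiproduct Fs
  rw [cls_congr h.nice i (h.vT hM hE), cls_biproduct h.nice (h.nice.iso i (h.vT hM hE)), hcls, Multiset.map_map]
  refine Finset.sum_congr rfl fun l _ => ?_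
  obtain ⟨r⟩ := nonempty_rep_iso (Fs l)
  exact cls_congr h.nice (G.mapIso r.symm) (h.vT (hF l) hE)

theorem mem_cls_tensor {M E : C} (hM : V M) (hE : V E) {z : Skeleton C} :
    z ∈ cls ((T.obj M).obj E) ↔ ∃ c ∈ cls M, z ∈ cls (tc T c E) := by
  rw [h.cls_tensor hM hE]
  induction cls M using Multiset.induction_on with
  | empty => simp
  | cons a s ih => simp [ih]

theorem vRep {E : C} (hE : V E) {c : Skeleton C} (hc : c ∈ occ T one E) : V (rep c) := by
  obtain ⟨n, hn⟩ := hc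
  exact (exists_of_mem_cls h.nice (h.vPw hE n) hn).1

theorem occ_step {E : C} (hE : V E) {c z : Skeleton C} (hc : c ∈ occ T one E) (hz : z ∈ cls (tc T c E)) :
    z ∈ occ T one E := by
  obtain ⟨n, hn⟩ := hc
  exact ⟨n + 1, (h.mem_cls_tensor (h.vPw hE n) hE).2 ⟨c, hn, hz⟩⟩

theorem occ_mono {A B E : C} (hA : V A) (hB : V B) (e : E ≅ A ⊞ B) (n : ℕ) {z : Skeleton C}
    (hz : z ∈ cls (pw T one A n)) : z ∈ cls (pw T one E n) := by
  have hE : V E := h.nice.iso e.symm (h.nice.biprod hA hB)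
  induction n generalizing z with
  | zero => exact hz
  | succ n ih =>
    obtain ⟨c, hc, hzc⟩ := (h.mem_cls_tensor (h.vPw hA n) hA).1 hz
    refine (h.mem_cls_tensor (h.vPw hE n) hE).2 ⟨c, ih hc, ?_⟩
    have hv := (exists_of_mem_cls h.nice (h.vPw hA n) hc).1
    obtain ⟨s⟩ := h.comm (rep c) E
    obtain ⟨d⟩ := h.distrib A B (rep c)
    obtain ⟨s'⟩ := h.comm (rep c) A
    rw [tc, cls_congr h.nice s (h.vT hv hE),
      cls_congr h.nice (show (T.obj E).obj (rep c) ≅ _ from (T.flip.obj (rep c)).mapIso e ≪≫ d) (h.vT hE hv),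
      cls_biprod h.nice (h.vT hA hv) (h.vT hB hv), Multiset.mem_add]
    exact Or.inl (by rwa [← cls_congr h.nice s' (h.vT hv hA)])

/-- Summands of finite objects are finite. -/
theorem finite_occ_summand {A B E : C} (hA : V A) (hB : V B) (e : E ≅ A ⊞ B)
    (hfin : (occ T one E).Finite) : (occ T one A).Finite :=
  hfin.subset fun _ ⟨n, hn⟩ => ⟨n, h.occ_mono hA hB e n hn⟩

/-- The classes in the products of two sets of classes. -/
theorem finite_prod {S₁ S₂ : Set (Skeleton C)} (h₁ : S₁.Finite) (h₂ : S₂.Finite) :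
    {z : Skeleton C | ∃ a ∈ S₁, ∃ b ∈ S₂, z ∈ cls ((T.obj (rep a)).obj (rep b))}.Finite := by
  refine ((h₁.prod h₂).biUnion fun p _ => (cls ((T.obj (rep p.1)).obj (rep p.2))).toFinset.finite_toSet).subset ?_
  rintro z ⟨a, ha, b, hb, hz⟩
  exact Set.mem_biUnion (x := (a, b)) ⟨ha, hb⟩ (by simpa using hz)

theorem zero_step {E₁ E₂ : C} (h₁ : V E₁) (h₂ : V E₂) {z : Skeleton C} (hz : z ∈ cls one) :
    ∃ a ∈ occ T one E₁, ∃ b ∈ occ T one E₂, z ∈ cls ((T.obj (rep a)).obj (rep b)) := by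
  obtain ⟨u⟩ := h.unit one
  rw [← cls_congr h.nice u (h.vT h.vOne h.vOne)] at hz
  obtain ⟨a, ha, hza⟩ := (h.mem_cls_tensor h.vOne h.vOne).1 hz
  have hva := (exists_of_mem_cls h.nice h.vOne ha).1
  obtain ⟨s⟩ := h.comm (rep a) one
  rw [tc, cls_congr h.nice s (h.vT hva h.vOne)] at hza
  obtain ⟨b, hb, hzb⟩ := (h.mem_cls_tensor h.vOne hva).1 hza
  have hvb := (exists_of_mem_cls h.nice h.vOne hb).1
  obtain ⟨s'⟩ := h.comm (rep b) (rep a)
  rw [tc, cls_congr h.nice s' (h.vT hvb hva)] at hzb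
  exact ⟨a, ⟨0, ha⟩, b, ⟨0, hb⟩, hzb⟩

/-- `(a ⊗ b) ⊗ E₁` comes from `a ⊗ E₁` and `b`. -/
theorem left_step {E₁ : C} (h₁ : V E₁) {a b : Skeleton C} (ha : a ∈ occ T one E₁) (hb : V (rep b))
    {z : Skeleton C} (hz : z ∈ cls ((T.obj ((T.obj (rep a)).obj (rep b))).obj E₁)) :
    ∃ a' ∈ occ T one E₁, z ∈ cls ((T.obj (rep a')).obj (rep b)) := by
  have hva := h.vRep h₁ ha
  obtain ⟨α⟩ := h.assoc (rep a) (rep b) E₁
  obtain ⟨γ⟩ := h.comm (rep b) E₁
  obtain ⟨β⟩ := h.assoc (rep a) E₁ (rep b)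
  rw [cls_congr h.nice (α ≪≫ (T.obj (rep a)).mapIso γ ≪≫ β.symm) (h.vT (h.vT hva hb) h₁)] at hz
  obtain ⟨a', ha', hz'⟩ := (h.mem_cls_tensor (h.vT hva h₁) hb).1 hz
  exact ⟨a', h.occ_step h₁ ha ha', hz'⟩

/-- Sums of finite objects are finite. -/
theorem finite_occ_biprod {E₁ E₂ : C} (h₁ : V E₁) (h₂ : V E₂) (f₁ : (occ T one E₁).Finite)
    (f₂ : (occ T one E₂).Finite) : (occ T one (E₁ ⊞ E₂)).Finite := by
  refine (h.finite_prod f₁ f₂).subset fun z hz => ?_
  obtain ⟨n, hn⟩ := hz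
  induction n generalizing z with
  | zero => exact h.zero_step h₁ h₂ hn
  | succ n ih =>
    have hE := h.nice.biprod h₁ h₂
    obtain ⟨c, hc, hzc⟩ := (h.mem_cls_tensor (h.vPw hE n) hE).1 hn
    obtain ⟨a, ha, b, hb, hcab⟩ := ih c hc
    have hva := h.vRep h₁ ha
    have hvb := h.vRep h₂ hb
    have hvc := (exists_of_mem_cls h.nice (h.vPw hE n) hc).1
    obtain ⟨s⟩ := h.comm (rep c) (E₁ ⊞ E₂)
    obtain ⟨d⟩ := h.distrib E₁ E₂ (rep c)
    rw [tc, cls_congr h.nice (s ≪≫ d) (h.vT hvc hE), cls_biprod h.nice (h.vT h₁ hvc) (h.vT h₂ hvc),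
      Multiset.mem_add] at hzc
    rcases hzc with hz | hz
    · obtain ⟨t⟩ := h.comm E₁ (rep c)
      rw [cls_congr h.nice t (h.vT h₁ hvc)] at hz
      obtain ⟨a', ha', hz'⟩ := h.left_step h₁ ha hvb ((h.mem_cls_tensor (h.vT hva hvb) h₁).2 ⟨c, hcab, hz⟩)
      exact ⟨a', ha', b, hb, hz'⟩
    · obtain ⟨t⟩ := h.comm E₂ (rep c)
      rw [cls_congr h.nice t (h.vT h₂ hvc)] at hz
      obtain ⟨s'⟩ := h.comm (rep a) (rep b)
      rw [cls_congr h.nice s' (h.vT hva hvb)] at hcab
      obtain ⟨b', hb', hz'⟩ := h.left_step h₂ hb hva ((h.mem_cls_tensor (h.vT hvb hva) h₂).2 ⟨c, hcab, hz⟩)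
      obtain ⟨s''⟩ := h.comm (rep b') (rep a)
      rw [cls_congr h.nice s'' (h.vT (h.vRep h₂ hb') hva)] at hz'
      exact ⟨a, ha, b', hb', hz'⟩

/-- Products of finite objects are finite. -/
theorem finite_occ_tensor {E₁ E₂ : C} (h₁ : V E₁) (h₂ : V E₂) (f₁ : (occ T one E₁).Finite)
    (f₂ : (occ T one E₂).Finite) : (occ T one ((T.obj E₁).obj E₂)).Finite := by
  refine (h.finite_prod f₁ f₂).subset fun z hz => ?_
  obtain ⟨n, hn⟩ := hz
  induction n generalizing z with
  | zero => exact h.zero_step h₁ h₂ hn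
  | succ n ih =>
    have hE := h.vT h₁ h₂
    obtain ⟨c, hc, hzc⟩ := (h.mem_cls_tensor (h.vPw hE n) hE).1 hn
    obtain ⟨a, ha, b, hb, hcab⟩ := ih c hc
    have hva := h.vRep h₁ ha
    have hvb := h.vRep h₂ hb
    have hz := (h.mem_cls_tensor (h.vT hva hvb) hE).2 ⟨c, hcab, hzc⟩
    obtain ⟨α⟩ := h.assoc ((T.obj (rep a)).obj (rep b)) E₁ E₂
    rw [← cls_congr h.nice α (h.vT (h.vT (h.vT hva hvb) h₁) h₂)] at hz
    obtain ⟨c', hc', hzc'⟩ := (h.mem_cls_tensor (h.vT (h.vT hva hvb) h₁) h₂).1 hz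
    obtain ⟨a', ha', hc''⟩ := h.left_step h₁ ha hvb hc'
    have hva' := h.vRep h₁ ha'
    obtain ⟨s⟩ := h.comm (rep a') (rep b)
    rw [cls_congr h.nice s (h.vT hva' hvb)] at hc''
    obtain ⟨b', hb', hz'⟩ := h.left_step h₂ hb hva' ((h.mem_cls_tensor (h.vT hvb hva') h₂).2 ⟨c', hc'', hzc'⟩)
    obtain ⟨s'⟩ := h.comm (rep b') (rep a')
    rw [cls_congr h.nice s' (h.vT (h.vRep h₂ hb') hva')] at hz'
    exact ⟨a', ha', b', hb', hz'⟩

/-- A relation between the powers bounds the classes. -/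
theorem finite_occ_of_rel {E : C} (hE : V E) (N : ℕ) (p q : ℕ → ℕ) (hne : ∃ i < N, p i ≠ q i)
    (heq : ∑ i ∈ Finset.range N, p i • cls (pw T one E i) = ∑ i ∈ Finset.range N, q i • cls (pw T one E i)) :
    (occ T one E).Finite := by
  obtain ⟨i₀, hi₀, hi₀'⟩ := hne
  have hne' : ((Finset.range N).filter fun i => p i ≠ q i).Nonempty :=
    ⟨i₀, Finset.mem_filter.2 ⟨Finset.mem_range.2 hi₀, hi₀'⟩⟩
  let d := ((Finset.range N).filter fun i => p i ≠ q i).max' hne'
  obtain ⟨hdN, hd⟩ := Finset.mem_filter.1 (Finset.max'_mem _ hne')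
  have key : ∀ z ∈ cls (pw T one E d), ∃ i < d, z ∈ cls (pw T one E i) := by
    intro z hz
    by_contra hno
    push Not at hno
    have h1 := congrArg (Multiset.count z) heq
    simp only [Multiset.count_sum', Multiset.count_nsmul] at h1
    rw [← Finset.add_sum_erase _ _ hdN, ← Finset.add_sum_erase _ _ hdN] at h1
    have h2 : ∑ i ∈ (Finset.range N).erase d, p i * Multiset.count z (cls (pw T one E i)) =
        ∑ i ∈ (Finset.range N).erase d, q i * Multiset.count z (cls (pw T one E i)) := by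
      refine Finset.sum_congr rfl fun i hi => ?_
      obtain ⟨hid, hiN⟩ := Finset.mem_erase.1 hi
      rcases lt_or_gt_of_ne hid with hlt | hgt
      · rw [Multiset.count_eq_zero_of_notMem (hno i hlt), mul_zero, mul_zero]
      · rw [not_not.1 fun hpq => absurd (Finset.le_max' _ i (Finset.mem_filter.2 ⟨hiN, hpq⟩)) (not_le.2 hgt)]
    rw [h2] at h1
    exact hd (Nat.eq_of_mul_eq_mul_right (Multiset.count_pos.2 hz) (Nat.add_right_cancel h1))
  let U : Set (Skeleton C) := {z | ∃ i < d, z ∈ cls (pw T one E i)}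
  have hU : U.Finite :=
    ((Finset.range d).finite_toSet.biUnion fun i _ => (cls (pw T one E i)).toFinset.finite_toSet).subset
      fun z ⟨i, hi, hz⟩ => Set.mem_biUnion (Finset.mem_range.2 hi) (by simpa using hz)
  refine hU.subset fun z hz => ?_
  obtain ⟨n, hn⟩ := hz
  induction n generalizing z with
  | zero =>
    rcases Nat.eq_zero_or_pos d with h0 | h0
    · exact key z (h0.symm ▸ hn)
    · exact ⟨0, h0, hn⟩
  | succ n ih =>
    obtain ⟨c, hc, hzc⟩ := (h.mem_cls_tensor (h.vPw hE n) hE).1 hn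
    obtain ⟨i, hi, hci⟩ := ih c hc
    have hzi : z ∈ cls (pw T one E (i + 1)) := (h.mem_cls_tensor (h.vPw hE i) hE).2 ⟨c, hci, hzc⟩
    rcases Nat.lt_or_ge (i + 1) d with hlt | hge
    · exact ⟨i + 1, hlt, hzi⟩
    · have h' : i + 1 = d := by omega
      exact key z (h' ▸ hzi)

/-- Finitely many classes give a relation between the powers. -/
theorem exists_rel {E : C} (hfin : (occ T one E).Finite) :
    ∃ (N : ℕ) (p q : ℕ → ℕ), (∃ i < N, p i ≠ q i) ∧
      ∑ i ∈ Finset.range N, p i • cls (pw T one E i) = ∑ i ∈ Finset.range N, q i • cls (pw T one E i) := by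
  let S := hfin.toFinset
  let v : Fin (S.card + 1) → (S → ℤ) := fun i c => (Multiset.count (c : Skeleton C) (cls (pw T one E i)) : ℤ)
  have hdep : ¬ LinearIndependent ℤ v := fun hli => by
    have := hli.fintype_card_le_finrank
    simp at this
  obtain ⟨g, hg, j, hj⟩ := Fintype.not_linearIndependent_iff.1 hdep
  let G : ℕ → ℤ := fun i => if hi : i < S.card + 1 then g ⟨i, hi⟩ else 0
  refine ⟨S.card + 1, fun i => (G i).toNat, fun i => (-G i).toNat, ⟨j, j.2, ?_⟩, ?_⟩
  · have : G j = g j := dif_pos j.2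
    simp only [this]
    omega
  · refine Multiset.ext.2 fun z => ?_
    simp only [Multiset.count_sum', Multiset.count_nsmul]
    by_cases hz : z ∈ occ T one E
    · have h1 := congrFun hg ⟨z, hfin.mem_toFinset.2 hz⟩
      simp only [Finset.sum_apply, Pi.smul_apply, smul_eq_mul, Pi.zero_apply, v] at h1
      zify
      rw [← sub_eq_zero, ← Finset.sum_sub_distrib, Finset.sum_range]
      refine Eq.trans (Finset.sum_congr rfl fun i _ => ?_) h1
      have hGi : G i = g i := dif_pos i.2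
      rw [← sub_mul, Int.toNat_sub_toNat_neg, hGi]
    · have : ∀ i, Multiset.count z (cls (pw T one E i)) = 0 := fun i =>
        Multiset.count_eq_zero_of_notMem fun hzi => hz ⟨i, hzi⟩
      simp [this]

end Tens

end FinBundleLib

end
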